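import Mathlib

/-!
Standard étale algebras are dominated, locally on the source, by a finite free algebra splitting
the defining monic polynomial.
-/

set_option autoImplicit false
universe u

open Polynomial

namespace Groth.Agent.EtCover

/-- Finitely many monic polynomials split in a single finite free nontrivial extension. -/
theorem exists_split_all {R : Type u} [CommRing R] [Nontrivial R] (l : List R[X]) (hl : ∀ f ∈ l, f.Monic) :
    ∃ (S : Type u) (_ : CommRing S) (_ : Algebra R S), Module.Finite R S ∧ Module.Free R S ∧ Nontrivial S ∧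
      ∀ f ∈ l, (f.map (algebraMap R S)).Splits := by
  induction l with
  | nil => exact ⟨R, inferInstance, inferInstance, inferInstance, inferInstance, inferInstance, by simp⟩
  | cons f l ih =>
    obtain ⟨S, _, _, _, _, _, hS⟩ := ih fun g hg => hl g (List.mem_cons_of_mem f hg)
    obtain ⟨T, _, _, _, _, _, hT⟩ := ((hl f (List.mem_cons_self ..)).map (algebraMap R S)).exists_splits_map
    letI : Algebra R T := ((algebraMap S T).comp (algebraMap R S)).toAlgebra
    haveI : IsScalarTower R S T := IsScalarTower.of_algebraMap_eq fun _ => rfl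
    refine ⟨T, inferInstance, inferInstance, Module.Finite.trans S T, Module.Free.trans (S := S), inferInstance,
      fun g hg => ?_⟩
    rw [IsScalarTower.algebraMap_eq R S T, ← Polynomial.map_map]
    rcases List.mem_cons.1 hg with rfl | hg
    · exact hT
    · exact (hS g hg).map _

theorem mem_comap_map_iff {S' : Type u} [CommRing S'] (q' : Ideal S') [q'.IsPrime] (g' : S') (hg' : g' ∉ q')
    (s : S') : algebraMap S' (Localization.Away g') s ∈ q'.map (algebraMap S' (Localization.Away g')) ↔ s ∈ q' := by
  have hdisj : Disjoint (Submonoid.powers g' : Set S') (q' : Set S') :=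
    (Ideal.disjoint_powers_iff_notMem g' (Ideal.IsPrime.isRadical inferInstance)).2 hg'
  exact (Ideal.ext_iff.1 (IsLocalization.comap_map_of_isPrime_disjoint (Submonoid.powers g')
    (Localization.Away g') (I := q') inferInstance hdisj)) s

/-- The key point. -/
theorem exists_factor {R : Type u} [CommRing R] {S : Type u} [CommRing S] [Algebra R S]
    (P : StandardEtalePresentation R S) {S' : Type u} [CommRing S'] [Algebra R S']
    (hsp : (P.f.map (algebraMap R S')).Splits)
    (q : Ideal S) [q.IsPrime] (q' : Ideal S') [q'.IsPrime] (hqq' : q'.under R = q.under R) :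
    ∃ (g' : S') (_ : g' ∉ q') (φ : S →ₐ[R] Localization.Away g'),
      (q'.map (algebraMap S' (Localization.Away g'))).comap φ = q := by
  haveI : Algebra.IsStandardEtale R S := ⟨⟨P⟩⟩
  let p := q.under R
  haveI : q.LiesOver p := ⟨rfl⟩
  haveI : q'.LiesOver p := ⟨hqq'.symm⟩
  letI := Localization.AtPrime.algebraOfLiesOver p q
  letI := Localization.AtPrime.algebraOfLiesOver p q'
  haveI : Module.Finite p.ResidueField q.ResidueField := inferInstance
  let L := AlgebraicClosure q'.ResidueField
  let σ : q.ResidueField →ₐ[p.ResidueField] L := IsAlgClosed.lift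
  let ψ : S →ₐ[R] L := (σ.restrictScalars R).comp (IsScalarTower.toAlgHom R S q.ResidueField)
  have hψ : ∀ s, ψ s = 0 ↔ s ∈ q := fun s =>
    (map_eq_zero σ.toRingHom).trans Ideal.algebraMap_residueField_eq_zero
  let μ : S' →ₐ[R] L := IsScalarTower.toAlgHom R S' L
  have hμ : ∀ s, μ s = 0 ↔ s ∈ q' := fun s => by
    show algebraMap S' L s = 0 ↔ _
    rw [IsScalarTower.algebraMap_apply S' q'.ResidueField L,
      map_eq_zero_iff _ (algebraMap q'.ResidueField L).injective, Ideal.algebraMap_residueField_eq_zero]
  obtain ⟨m, hm⟩ := splits_iff_exists_multiset.1 hsp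
  rw [(P.monic_f.map (algebraMap R S')).leadingCoeff, C_1, one_mul] at hm
  have h0 : aeval (ψ P.x) P.f = 0 := by rw [aeval_algHom_apply, P.hasMap.1, map_zero]
  have h1 : (((m.map fun a => X - C a).prod).map μ.toRingHom).eval (ψ P.x) = 0 := by
    rw [← hm, Polynomial.map_map, show μ.toRingHom.comp (algebraMap R S') = algebraMap R L from μ.comp_algebraMap,
      eval_map, ← aeval_def, h0]
  rw [Polynomial.map_multiset_prod, eval_multiset_prod, Multiset.map_map, Multiset.map_map,
    Multiset.prod_eq_zero_iff, Multiset.mem_map] at h1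
  obtain ⟨α, hα, hαx⟩ := h1
  replace hαx : μ α = ψ P.x := by
    simp only [Function.comp_apply, Polynomial.map_sub, map_X, map_C, eval_sub, eval_X, eval_C,
      sub_eq_zero] at hαx
    exact hαx.symm
  have hαf : aeval α P.f = 0 := by
    rw [aeval_def, ← eval_map, hm, eval_multiset_prod, Multiset.map_map]
    exact Multiset.prod_eq_zero (Multiset.mem_map.2 ⟨α, hα, by simp⟩)
  let g' := aeval α P.g
  have hμg : μ g' ≠ 0 := by
    rw [show μ g' = aeval (μ α) P.g from (aeval_algHom_apply μ α P.g).symm, hαx, aeval_algHom_apply]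
    exact ((P.hasMap.2).map ψ).ne_zero
  have hg' : g' ∉ q' := fun h => hμg ((hμ _).2 h)
  let ι : S' →ₐ[R] Localization.Away g' := IsScalarTower.toAlgHom R S' _
  have hmap : P.P.HasMap (ι α) := by
    refine ⟨by rw [aeval_algHom_apply, hαf, map_zero], ?_⟩
    rw [aeval_algHom_apply]
    exact IsLocalization.Away.algebraMap_isUnit g'
  let φ : S →ₐ[R] Localization.Away g' := (P.P.lift _ hmap).comp P.equivRing.toAlgHom
  refine ⟨g', hg', φ, ?_⟩
  have hu : ∀ y : Submonoid.powers g', IsUnit (μ (y : S')) := by
    rintro ⟨_, n, rfl⟩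
    show IsUnit (μ (g' ^ n))
    rw [map_pow]
    exact (Ne.isUnit hμg).pow n
  let η : Localization.Away g' →ₐ[R] L := IsLocalization.liftAlgHom (M := Submonoid.powers g') (f := μ) hu
  have hηι : ∀ s, η (ι s) = μ s := fun s => IsLocalization.lift_eq hu s
  have hX : P.equivRing.symm P.P.X = P.x := P.P.lift_X P.x P.hasMap
  have hηφ : η.comp φ = ψ := by
    suffices h : (η.comp φ).comp P.equivRing.symm.toAlgHom = ψ.comp P.equivRing.symm.toAlgHom by
      ext s
      simpa using DFunLike.congr_fun h (P.equivRing s)
    refine P.P.hom_ext ?_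
    show η (P.P.lift _ hmap (P.equivRing (P.equivRing.symm P.P.X))) = ψ (P.equivRing.symm P.P.X)
    rw [AlgEquiv.apply_symm_apply, hX, P.P.lift_X, hηι, hαx]
  have hη : ∀ z : Localization.Away g',
      z ∈ q'.map (algebraMap S' (Localization.Away g')) ↔ η z = 0 := by
    intro z
    obtain ⟨⟨a, b⟩, hab⟩ := IsLocalization.surj (Submonoid.powers g') z
    dsimp only at hab
    have hbu : IsUnit (algebraMap S' (Localization.Away g') b) := IsLocalization.map_units _ b
    rw [← Ideal.unit_mul_mem_iff_mem _ hbu, mul_comm, hab, mem_comap_map_iff q' g' hg', ← hμ a,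
      ← hηι a, show ι a = algebraMap S' (Localization.Away g') a from rfl, ← hab, map_mul, mul_eq_zero]
    refine or_iff_left ?_
    rw [show η (algebraMap S' (Localization.Away g') (b : S')) = μ b from hηι b]
    exact (hu b).ne_zero
  ext s
  rw [Ideal.mem_comap, hη, ← hψ s, ← hηφ]
  exact Iff.rfl

/-- A finite free nontrivial algebra has surjective spectrum. -/
theorem comap_surjective {R S : Type u} [CommRing R] [CommRing S] [Algebra R S] [Module.FaithfullyFlat R S] :
    Function.Surjective (PrimeSpectrum.comap (algebraMap R S)) :=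
  PrimeSpectrum.comap_surjective_of_faithfullyFlat

end Groth.Agent.EtCover
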